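import Cfsg.Agent.Lib.Cert.Sz8.Tw
import Cfsg.Agent.Lib.Cert.Lin

set_option autoImplicit false
set_option maxRecDepth 100000

namespace Cfsg.Agent.Ct.Sz8

open Cfsg.Agent.PC

open Cfsg.Agent.Fi Cfsg.Agent.Ct
def Tf_t : TN := (TN.leaf (nat_lit 0x155ef5f37644889f7864f215cec5a57eccb9c14351891e01808520da0470d42ac2061b1a5a5a00c0ce9c9b4e0951462ad424024cea044383a622c4e0f1c11b880e94db348e459440d81ad00b95ac7849c1f04ecc8d0a5934014c84b53ad1e904ec10a33ce89bf4468baf1818aa830a5f0154746822ca118f6699d2f325da9b7e4c4ab5aa55000614a1e6ed088c24c129030f9b0b441051f0cc47278055ebc422191c34e5c0740ed72402b039162c1a2b3c7d0ac665d90048eca207455a9c0a2d49d0c988397a0c6191c686c05cd87af1410da812e15164e21ba55afdf2226f0c12040519b122110562b9191186563c6cd1f3d2e6853776414131c945b2001dc2f72e93ab2874f846a3d6b00c0dfa43078e20525890d809951542080b3))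
noncomputable def Tf (i : ℕ) : ℕ := get9 Tf_t (nat_lit 7) (nat_lit 127) i
noncomputable def T (j c : ℕ) : ℕ := Tf (Nat.add (Nat.mul j (nat_lit 65)) c)
noncomputable def p0 : ℕ → ℕ := permE T inv (nat_lit 65) (nat_lit 5)
theorem pp0 : Nat.beq (rng p0 (nat_lit 0) (nat_lit 65)) (nat_lit 0) = true := by decide +kernel
theorem hp : ∀ i < 65, p0 i = 0 := by
  have h := zero_lt_zero p0
  have h := zero_lt_add (a := (nat_lit 0)) (n := (nat_lit 65)) (b := (nat_lit 65)) h pp0 rfl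
  exact h
abbrev pt : ℕ → Fin 65 := (finLab 64).pt
noncomputable def pf : ℕ → Equiv.Perm (Fin 65) := (finLab 64).fam T inv
theorem pr : Reps pt 65 pf T 5 ∧ InvOK pf inv 5 := (finLab 64).reps_fam (by decide +kernel) hp
noncomputable def x1 : ℕ → ℕ := relF T rels
theorem yy0 : Nat.beq (rng x1 (nat_lit 0) (nat_lit 65)) (nat_lit 0) = true := by decide +kernel
theorem hy : ∀ i < 65, x1 i = 0 := by
  have h := zero_lt_zero x1
  have h := zero_lt_add (a := (nat_lit 0)) (n := (nat_lit 65)) (b := (nat_lit 65)) h yy0 rfl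
  exact h
theorem rl0 : ∀ w ∈ rels, ev pf w = 1 := rel_of_tab (finLab 64).surj pr.1 (by decide +kernel) hy
abbrev P : Type := ↥(gen pf 5)
noncomputable def al : ℕ → P := PC.sub (gen pf 5) pf
theorem rp : Reps pt 65 al T 5 := (pr.1.mono (by decide)).sub le_rfl
theorem top : gen al 5 = ⊤ := gen_sub_top rfl
def W0_t : TL := (TL.node (TL.node (TL.leaf [nat_lit 2, nat_lit 0, nat_lit 4, nat_lit 0, nat_lit 0, nat_lit 2]) (TL.leaf [nat_lit 2, nat_lit 4, nat_lit 1, nat_lit 4, nat_lit 2, nat_lit 2, nat_lit 2, nat_lit 0])) (TL.leaf [nat_lit 1, nat_lit 3, nat_lit 1, nat_lit 1, nat_lit 4, nat_lit 3]))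
noncomputable def W0 (i : ℕ) : List ℕ := TL.get W0_t i
def Q0f_t : TN := (TN.leaf (nat_lit 0x898b96ea5c067cede9f6655a8e7e953880610b13780178a608d2404085b110e606971e70d2b681550c3c04cb2364812612b8eba28b168b20a17872039fb32ad07a336315252648e8d4d0161128856a91265d1a5c80fb17620b247805f3830f59044e715a26c298350a5c1033ca1cb7161803b103c837645198c447c6ab462439e16a1fae266102a0648b3032b4ea172f85174ad40b108697b87490da94cf08b480f4a8e58713850c09b00))
noncomputable def Q0f (i : ℕ) : ℕ := get9 Q0f_t (nat_lit 7) (nat_lit 127) i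
noncomputable def Q0 (j c : ℕ) : ℕ := Q0f (Nat.add (Nat.mul j (nat_lit 65)) c)
noncomputable def q0 (j : ℕ) : P := ev al (W0 j)
noncomputable def c0 : ℕ → ℕ := tabE T Q0 W0 (nat_lit 3)
theorem cc0 : Nat.beq (rng c0 (nat_lit 0) (nat_lit 65)) (nat_lit 0) = true := by decide +kernel
theorem hc : ∀ i < 65, c0 i = 0 := by
  have h := zero_lt_zero c0
  have h := zero_lt_add (a := (nat_lit 0)) (n := (nat_lit 65)) (b := (nat_lit 65)) h cc0 rfl
  exact h
def CV0_t : TN := (TN.leaf (nat_lit 0x12852d5c433586695d56d5aa28ca4726d4b55cb698ce214b5ada86b0e8e3398ea39a36ae8592cae721))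
noncomputable def CV0 (i : ℕ) : ℕ := get9 CV0_t (nat_lit 5) (nat_lit 31) i
def CV1_t : TN := (TN.leaf (nat_lit 0x2121954d75c71451956162064d71431875d45155861055031075c25955181d65465875461455071165974575c558641700))
noncomputable def CV1 (i : ℕ) : ℕ := get9 CV1_t (nat_lit 6) (nat_lit 63) i
def CV2_t : TN := (TN.leaf (nat_lit 0x200060006000000000000000000040000a000000080000000000000000000000000000020))
noncomputable def CV2 (i : ℕ) : ℕ := get9 CV2_t (nat_lit 5) (nat_lit 31) i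
noncomputable def l0 : Lev := ⟨(nat_lit 0), (nat_lit 65), (nat_lit 2), CV0⟩
noncomputable def lt : List Lev := [⟨(nat_lit 2), (nat_lit 64), (nat_lit 1), CV1⟩, ⟨(nat_lit 1), (nat_lit 7), (nat_lit 0), CV2⟩]
theorem ch : Ch pt 65 q0 Q0 3 4 (l0 :: lt) :=
  ⟨(finLab 64).inj, reps_tabs (rp) (by decide +kernel) hc, by decide +kernel, cardLE_sub (ub5 pr.2 rl0)⟩
def SO_t : TN := (TN.leaf (nat_lit 0x2aaaaaaaaaaaaaaaaaaaaaaaaaaaaaaa9))
noncomputable def SO (i : ℕ) : ℕ := get9 SO_t (nat_lit 2) (nat_lit 3) i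
def SV_t : TN := (TN.leaf (nat_lit 0x1465d65046142035161831d61866066456071d51c25c21c75951575c31511c61876165941985451d61d75855961545d041))
noncomputable def SV (i : ℕ) : ℕ := get9 SV_t (nat_lit 6) (nat_lit 63) i
def rt (i : ℕ) : ℕ := Nat.land (Nat.shiftRight (nat_lit 4) (Nat.mul (nat_lit 1) i)) (nat_lit 1)
def sz (i : ℕ) : ℕ := Nat.land (Nat.shiftRight (nat_lit 0x100080) (Nat.mul (nat_lit 7) i)) (nat_lit 127)
noncomputable def s0 : ℕ → ℕ := soE Q0 (nat_lit 2) (nat_lit 65) (nat_lit 4) (nat_lit 2) SV SO rt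
theorem ss0 : Nat.beq (rng s0 (nat_lit 0) (nat_lit 65)) (nat_lit 0) = true := by decide +kernel
theorem hs : ∀ i < 65, s0 i = 0 := by
  have h := zero_lt_zero s0
  have h := zero_lt_add (a := (nat_lit 0)) (n := (nat_lit 65)) (b := (nat_lit 65)) h ss0 rfl
  exact h
theorem hsz : ∀ i ≤ 2, 1 ≤ i → cnt SO i 65 = sz i := by decide +kernel
theorem coatom : IsCoatom (MulAction.stabilizer P (pt 0)) :=
  ch.coatom (by decide +kernel) hs sz hsz (k0 := 1) (by decide +kernel) (by decide +kernel)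
def B0 : List ℕ := [nat_lit 0, nat_lit 2, nat_lit 1]
theorem md0 : Md pt 65 B0 al T 5 := ch.md (rp) rfl
theorem card : Nat.card P = 29120 := ch.card
instance : Finite P := ch.fin
def W1_t : TL := (TL.node (TL.node (TL.node (TL.leaf [nat_lit 0]) (TL.leaf [nat_lit 4])) (TL.node (TL.leaf [nat_lit 2]) (TL.leaf [nat_lit 3, nat_lit 4, nat_lit 0, nat_lit 4, nat_lit 1, nat_lit 1, nat_lit 3]))) (TL.node (TL.node (TL.leaf [nat_lit 1]) (TL.leaf [nat_lit 2, nat_lit 0, nat_lit 4, nat_lit 0, nat_lit 0, nat_lit 3, nat_lit 1, nat_lit 3])) (TL.leaf [nat_lit 3])))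
noncomputable def W1 (i : ℕ) : List ℕ := TL.get W1_t i
def Q1f_t : TN := (TN.leaf (nat_lit 0x7cb0b7d00383143c2147a39127746548124c9cad2045d8d6ad90aa0c5c4a60a79c3c6270dab00dd733463100830092bf3455628269182f3ad1d0f0055a835e70db4401109d72606b124c8d220cb1bb318f472a201d1a55a2cf172c060090a45838287dd9978b9f084c4d3a86ca522b7e085155ef5f37644889f7864f215cec5a57eccb9c14351891e01808520da0470d42ac2061b1a5a5a00c0ce9c9b4e0951462ad424024cea044383a622c4e0f1c11b880e94db348e459440d81ad00b95ac7849c1f04ecc8d0a5934014c84b53ad1e904ec10a33ce89bf4468baf1818aa830a5f0154746822ca118f6699d2f325da9b7e4c4ab5aa55000614a1e6ed088c24c129030f9b0b441051f0cc47278055ebc422191c34e5c0740ed72402b039162c1a2b3c7d0ac665d90048eca207455a9c0a2d49d0c988397a0c6191c686c05cd87af1410da812e15164e21ba55afdf2226f0c12040519b122110562b9191186563c6cd1f3d2e6853776414131c945b2001dc2f72e93ab2874f846a3d6b00c0dfa43078e20525890d809951542080b3))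
noncomputable def Q1f (i : ℕ) : ℕ := get9 Q1f_t (nat_lit 7) (nat_lit 127) i
noncomputable def Q1 (j c : ℕ) : ℕ := Q1f (Nat.add (Nat.mul j (nat_lit 65)) c)
def V1_t : TL := (TL.node (TL.node (TL.node (TL.leaf [nat_lit 5, nat_lit 5, nat_lit 5, nat_lit 5, nat_lit 6, nat_lit 5, nat_lit 6, nat_lit 6, nat_lit 5, nat_lit 5, nat_lit 5, nat_lit 5, nat_lit 6, nat_lit 5, nat_lit 5, nat_lit 5, nat_lit 5, nat_lit 6, nat_lit 6, nat_lit 6, nat_lit 6, nat_lit 6, nat_lit 6, nat_lit 6, nat_lit 6, nat_lit 5, nat_lit 6]) (TL.leaf [nat_lit 5, nat_lit 6, nat_lit 6, nat_lit 5, nat_lit 6, nat_lit 6, nat_lit 6, nat_lit 6, nat_lit 5, nat_lit 5, nat_lit 5, nat_lit 5, nat_lit 5, nat_lit 5, nat_lit 5, nat_lit 5, nat_lit 6, nat_lit 6, nat_lit 6, nat_lit 6, nat_lit 5, nat_lit 5, nat_lit 5, nat_lit 5, nat_lit 5, nat_lit 5, nat_lit 5, nat_lit 5, nat_lit 6, nat_lit 6, nat_lit 6, nat_lit 6, nat_lit 5, nat_lit 6])) (TL.leaf [nat_lit 5, nat_lit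 6, nat_lit 6, nat_lit 6, nat_lit 6, nat_lit 5, nat_lit 5, nat_lit 5, nat_lit 5, nat_lit 6, nat_lit 6, nat_lit 5, nat_lit 5, nat_lit 5, nat_lit 5, nat_lit 6, nat_lit 6, nat_lit 6, nat_lit 6, nat_lit 5])) (TL.node (TL.leaf [nat_lit 5, nat_lit 5, nat_lit 5, nat_lit 5, nat_lit 5, nat_lit 5, nat_lit 5, nat_lit 5, nat_lit 6, nat_lit 6, nat_lit 6, nat_lit 6, nat_lit 5, nat_lit 6, nat_lit 5, nat_lit 5, nat_lit 5, nat_lit 5, nat_lit 5, nat_lit 5, nat_lit 5, nat_lit 5, nat_lit 5, nat_lit 5, nat_lit 5, nat_lit 5, nat_lit 6, nat_lit 6, nat_lit 6, nat_lit 6, nat_lit 6, nat_lit 6, nat_lit 6, nat_lit 6, nat_lit 5, nat_lit 5]) (TL.leaf [nat_lit 5, nat_lit 5, nat_lit 5, nat_lit 5, nat_lit 6, nat_lit 5, nat_lit 6, nat_lit 6, nat_lit 6, nat_lit 6, nat_lit 6, nat_lit 6, nat_lit 6, nat_lit 6, nat_lit 5, nat_lit 6, nat_lit 5, nat_lit 5, nat_lit 5, nat_lit 5])))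
noncomputable def V1 (i : ℕ) : List ℕ := TL.get V1_t i
noncomputable def e1 : ℕ → ℕ := tabE T Q1 W1 (nat_lit 7)
theorem ee0 : Nat.beq (rng e1 (nat_lit 0) (nat_lit 65)) (nat_lit 0) = true := by decide +kernel
theorem he : ∀ i < 65, e1 i = 0 := by
  have h := zero_lt_zero e1
  have h := zero_lt_add (a := (nat_lit 0)) (n := (nat_lit 65)) (b := (nat_lit 65)) h ee0 rfl
  exact h
theorem md1 : Md pt 65 B0 (fun j => ev al (W1 j)) Q1 7 := md0.words (by decide +kernel) he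
instance simple : IsSimpleGroup P := ch.simple rfl coatom (p := 5) (md1.ord le_rfl (a := ([nat_lit 5], 5)) (by decide +kernel)).2.1
  (by decide +kernel) (md0.ncl (top) md1 (x := 5) (y := 6) [nat_lit 1, nat_lit 3, nat_lit 3, nat_lit 4, nat_lit 1, nat_lit 0] V1 (by decide +kernel))
theorem ctr : Subgroup.center P = ⊥ := ctr_bot card (by norm_num) (by decide)
theorem iv : InvOK al inv 5 := pr.2.sub le_rfl
theorem rl : ∀ w ∈ rels, ev al w = 1 := rels_sub (by decide +kernel) rl0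
theorem ub : Ub inv rels 5 (Nat.card P) := fun _ _ _ h1 h2 => card ▸ ub5 h1 h2

end Cfsg.Agent.Ct.Sz8
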