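import Cfsg.Agent.Lib.Cert.Mod
import Cfsg.Agent.Lib.PermCert.PL

set_option autoImplicit false
set_option maxRecDepth 100000

namespace Cfsg.Agent.Ct.Sz8

open Cfsg.Agent.PC

open Cfsg.Agent.Fi Cfsg.Agent.Ct
namespace L1
def t0x : TN := (TN.leaf (nat_lit 0x2c762a45284341))
def t1x : TN := (TN.leaf (nat_lit 0x852b4629442842))
def tt : TN := (TN.node (TN.node (TN.node (TN.node t0x (TN.leaf (nat_lit 0))) (TN.node (TN.leaf (nat_lit 0)) (TN.leaf (nat_lit 0)))) (TN.node (TN.node (TN.leaf (nat_lit 0)) (TN.leaf (nat_lit 0))) (TN.node (TN.leaf (nat_lit 0)) (TN.leaf (nat_lit 0))))) (TN.node (TN.node (TN.node t1x (TN.leaf (nat_lit 0))) (TN.node (TN.leaf (nat_lit 0)) (TN.leaf (nat_lit 0)))) (TN.node (TN.node (TN.leaf (nat_lit 0)) (TN.leaf (nat_lit 0))) (TN.node (TN.leaf (nat_lit 0)) (TN.leaf (nat_lit 0))))))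
noncomputable def T (j c : ℕ) : ℕ := getL tt (nat_lit 8) (nat_lit 7) j c
noncomputable def E (j c : ℕ) : ℕ := getL tt (nat_lit 8) (nat_lit 255) j c
theorem T_eq (j c : ℕ) : T j c = E j c % 8 :=
  getL_mod (a := 3) (b := 8) _ _ (by norm_num) (by norm_num) (by norm_num) (by norm_num) j c
def rels : List (List ℕ) := [[nat_lit 0, nat_lit 0, nat_lit 0, nat_lit 0, nat_lit 0, nat_lit 0, nat_lit 0]]
def inv (i : ℕ) : ℕ := Nat.land (Nat.shiftRight (nat_lit 33) (Nat.mul (nat_lit 2) i)) (nat_lit 3)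
def X_t : TN := (TN.leaf (nat_lit 0))
noncomputable def X (i : ℕ) : ℕ := get9 X_t (nat_lit 1) (nat_lit 1) i
def Jp_t : TN := (TN.leaf (nat_lit 0))
noncomputable def Jp (i : ℕ) : ℕ := get9 Jp_t (nat_lit 1) (nat_lit 1) i
def J_t : TN := (TN.leaf (nat_lit 0))
noncomputable def J (k : ℕ) : ℕ := getV J_t Jp k
def Pa_t : TN := (TN.leaf (nat_lit 0x703632088a010200))
noncomputable def Pa (i : ℕ) : ℕ := get9 Pa_t (nat_lit 9) (nat_lit 511) i
def W_t : TL := (TL.leaf [nat_lit 2, nat_lit 0, nat_lit 1, nat_lit 1, nat_lit 1, nat_lit 1, nat_lit 1, nat_lit 1])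
noncomputable def W (i : ℕ) : List ℕ := TL.get W_t i
def WA_t : TL := (TL.leaf [nat_lit 0])
noncomputable def WA (i : ℕ) : List ℕ := TL.get WA_t i
noncomputable def row : ℕ → ℕ := hRow (nat_lit 6) (nat_lit 2) (nat_lit 0) (nat_lit 8) (nat_lit 4) (nat_lit 32) (nat_lit 128) (nat_lit 128) (nat_lit 0) E X Pa inv (wfun (nat_lit 1) W_t)
noncomputable def aux : ℕ → ℕ := hAux (nat_lit 7) (nat_lit 2) (nat_lit 8) (nat_lit 32) (nat_lit 128) (nat_lit 2) (nat_lit 2) (nat_lit 128) (nat_lit 0) E X J Pa inv WA_t.get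
theorem r0 : Nat.beq (rng row (nat_lit 0) (nat_lit 7)) (nat_lit 0) = true := by decide +kernel
theorem rows : ∀ i < 7, row i = 0 := by
  have h := zero_lt_zero row
  have h := zero_lt_add (a := (nat_lit 0)) (n := (nat_lit 7)) (b := (nat_lit 7)) h r0 rfl
  exact h
theorem auxs : ∀ i < 0, aux i = 0 := by
  have h := zero_lt_zero aux
  exact h
theorem closes.{u} : ClosesT.{u} inv rels 2 0 7 T :=
  hc_closes (N1 := (nat_lit 6)) rfl T_eq (by decide +kernel) rows auxs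
theorem T_inv : ∀ c < 7, ∀ j < 2, T j c < 7 ∧ T (inv j) (T j c) = c := 
  hc_inv (inv := inv) (N1 := (nat_lit 6)) rfl T_eq rows
end L1

namespace L2
def t0x : TN := (TN.leaf (nat_lit 0x86e60388030a03a08610860882d2028702a9032085890fc481c402382bf0854983e76b50852282760190851401e597d084f7979a2bb201b084d3cf396a4084c301750eb084b8776084a502510370849103430131031102f0847102c1029200810262a9d1022101f0844101a1955101608421010100e084118c5100610030840))
def t1x : TN := (TN.leaf (nat_lit 0x883196ef60289834a8259dbc80265dbe0859881c782e085740228a7608557efd0854103f82790852581e6a7708511a38232c084f4d5a982139f2084d103b103a084c3ae9300e413319e4084a5aeb10352adf0848200910302a56102d102a08461027084510231020101d101b10181910101308422003100b0841100710041000))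
def t2x : TN := (TN.leaf (nat_lit 0xb03450320864abffa8235020085a5033882e947a98bd802a085608559c7b8018709c08527be23cb178269c9b4470103e55ef7cb7401d084d200e103c8fb538133c5f50b92bec084a582d1038702710360848380b0847401045290846102b10281897102508441021101e08431019084210141011100f100c1009084010051001))
def t3x : TN := (TN.leaf (nat_lit 0xb03c0868a0350862a0319836581e085a802608589021abbf4b784c3e402c482958278437539b301d08517e74481308506e1971ab084e103da3bb802d084c4bba401f084b3b65782fa02a103908497f30200f10331032084733a0102e08463b54084519a3102408443396101c08431017101510120841100d100a100808401002))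
def tt : TN := (TN.node (TN.node (TN.node (TN.node t0x (TN.leaf (nat_lit 0))) (TN.node (TN.leaf (nat_lit 0)) (TN.leaf (nat_lit 0)))) (TN.node (TN.node t2x (TN.leaf (nat_lit 0))) (TN.node (TN.leaf (nat_lit 0)) (TN.leaf (nat_lit 0))))) (TN.node (TN.node (TN.node t1x (TN.leaf (nat_lit 0))) (TN.node (TN.leaf (nat_lit 0)) (TN.leaf (nat_lit 0)))) (TN.node (TN.node t3x (TN.leaf (nat_lit 0))) (TN.node (TN.leaf (nat_lit 0)) (TN.leaf (nat_lit 0))))))
noncomputable def T (j c : ℕ) : ℕ := getL tt (nat_lit 16) (nat_lit 63) j c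
noncomputable def E (j c : ℕ) : ℕ := getL tt (nat_lit 16) (nat_lit 65535) j c
theorem T_eq (j c : ℕ) : T j c = E j c % 64 :=
  getL_mod (a := 6) (b := 16) _ _ (by norm_num) (by norm_num) (by norm_num) (by norm_num) j c
def rels : List (List ℕ) := [[nat_lit 0, nat_lit 0, nat_lit 0, nat_lit 0, nat_lit 0, nat_lit 0, nat_lit 0], [nat_lit 2, nat_lit 2, nat_lit 2, nat_lit 2, nat_lit 2, nat_lit 2, nat_lit 2], [nat_lit 0, nat_lit 2, nat_lit 0, nat_lit 2, nat_lit 0, nat_lit 2, nat_lit 0, nat_lit 2], [nat_lit 2, nat_lit 0, nat_lit 0, nat_lit 3, nat_lit 3, nat_lit 1, nat_lit 1, nat_lit 1], [nat_lit 2, nat_lit 2, nat_lit 0, nat_lit 3, nat_lit 0, nat_lit 2, nat_lit 0, nat_lit 3, nat_lit 1, nat_lit 1]]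
def inv (i : ℕ) : ℕ := Nat.land (Nat.shiftRight (nat_lit 17601) (Nat.mul (nat_lit 3) i)) (nat_lit 7)
def X_t : TN := (TN.leaf (nat_lit 0))
noncomputable def X (i : ℕ) : ℕ := get9 X_t (nat_lit 1) (nat_lit 1) i
def Jp_t : TN := (TN.leaf (nat_lit 0))
noncomputable def Jp (i : ℕ) : ℕ := get9 Jp_t (nat_lit 1) (nat_lit 1) i
def J_t : TN := (TN.leaf (nat_lit 0))
noncomputable def J (k : ℕ) : ℕ := getV J_t Jp k
def Pa_t : TN := (TN.leaf (nat_lit 0xb705a0ec85623b085802b455a3ac8d60eb011718b1454a2a31408a0c48a241121889c44222310387843c61c70d286843461870c0860c2ce1610a2850428612709064132058e4c7363831898c6c61629b145884c4362030c986682241020850268104089008806000))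
noncomputable def Pa (i : ℕ) : ℕ := get9 Pa_t (nat_lit 13) (nat_lit 8191) i
def W_t : TL := (TL.node (TL.node (TL.node (TL.node (TL.node (TL.leaf [nat_lit 2050, nat_lit 2, nat_lit 3, nat_lit 3, nat_lit 3, nat_lit 3, nat_lit 3, nat_lit 3]) (TL.leaf [nat_lit 6151, nat_lit 2, nat_lit 3, nat_lit 1, nat_lit 1, nat_lit 1, nat_lit 2, nat_lit 0, nat_lit 0])) (TL.node (TL.leaf [nat_lit 2, nat_lit 0, nat_lit 1, nat_lit 1, nat_lit 1, nat_lit 1, nat_lit 1, nat_lit 1]) (TL.leaf [nat_lit 6159, nat_lit 0, nat_lit 2, nat_lit 0, nat_lit 0, nat_lit 3, nat_lit 3, nat_lit 1, nat_lit 1]))) (TL.node (TL.node (TL.leaf [nat_lit 8206, nat_lit 3, nat_lit 1, nat_lit 3, nat_lit 3, nat_lit 0, nat_lit 0, nat_lit 2, nat_lit 1, nat_lit 3, nat_lit 1]) (TL.leaf [nat_lit 4097, nat_lit 1, nat_lit 2, nat_lit 0, nat_lit 2, nat_lit 0, nat_lit 2, nat_lit 0, nat_lit 2])) (TL.node (TL.leaf [nat_lit 6145, nat_lit 3, nat_lit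 0, nat_lit 0, nat_lit 3, nat_lit 3, nat_lit 1, nat_lit 1, nat_lit 1]) (TL.leaf [nat_lit 8210, nat_lit 2, nat_lit 3, nat_lit 0, nat_lit 0, nat_lit 2, nat_lit 1, nat_lit 3, nat_lit 1, nat_lit 2, nat_lit 1])))) (TL.node (TL.node (TL.node (TL.leaf [nat_lit 6150, nat_lit 1, nat_lit 2, nat_lit 2, nat_lit 1, nat_lit 1, nat_lit 3, nat_lit 0, nat_lit 0]) (TL.leaf [nat_lit 8202, nat_lit 2, nat_lit 1, nat_lit 2, nat_lit 1, nat_lit 3, nat_lit 3, nat_lit 0, nat_lit 0, nat_lit 2, nat_lit 1])) (TL.node (TL.leaf [nat_lit 6148, nat_lit 1, nat_lit 0, nat_lit 2, nat_lit 2, nat_lit 1, nat_lit 1, nat_lit 3, nat_lit 0]) (TL.leaf [nat_lit 8195, nat_lit 3, nat_lit 0, nat_lit 3, nat_lit 0, nat_lit 2, nat_lit 0, nat_lit 3, nat_lit 1, nat_lit 1, nat_lit 2]))) (TL.node (TL.node (TL.leaf [nat_lit 8205, nat_lit 1, nat_lit 3, nat_lit 1, nat_lit 1, nat_lit 2, nat_lit 2, nat_lit 0, nat_lit 3, nat_lit 0, nat_lit 2])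 (TL.leaf [nat_lit 6152, nat_lit 3, nat_lit 2, nat_lit 1, nat_lit 1, nat_lit 3, nat_lit 0, nat_lit 0, nat_lit 0])) (TL.leaf [nat_lit 2049, nat_lit 3, nat_lit 2, nat_lit 2, nat_lit 2, nat_lit 2, nat_lit 2, nat_lit 2])))) (TL.node (TL.node (TL.node (TL.node (TL.leaf [nat_lit 6156, nat_lit 0, nat_lit 1, nat_lit 3, nat_lit 0, nat_lit 0, nat_lit 0, nat_lit 2, nat_lit 2]) (TL.leaf [nat_lit 6155, nat_lit 0, nat_lit 1, nat_lit 1, nat_lit 2, nat_lit 0, nat_lit 0, nat_lit 3, nat_lit 3])) (TL.node (TL.leaf [nat_lit 6149, nat_lit 1, nat_lit 3, nat_lit 3, nat_lit 1, nat_lit 1, nat_lit 1, nat_lit 2, nat_lit 0]) (TL.leaf [nat_lit 6146, nat_lit 1, nat_lit 0, nat_lit 0, nat_lit 2, nat_lit 2, nat_lit 1, nat_lit 1, nat_lit 3]))) (TL.node (TL.node (TL.leaf [nat_lit 8194, nat_lit 1, nat_lit 0, nat_lit 2, nat_lit 1, nat_lit 3, nat_lit 1, nat_lit 2, nat_lit 1, nat_lit 3, nat_lit 3]) (TL.leaf [nat_lit 8207,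 nat_lit 2, nat_lit 1, nat_lit 1, nat_lit 2, nat_lit 2, nat_lit 0, nat_lit 3, nat_lit 0, nat_lit 2, nat_lit 0])) (TL.leaf [nat_lit 6160, nat_lit 2, nat_lit 0, nat_lit 0, nat_lit 0, nat_lit 2, nat_lit 2, nat_lit 1, nat_lit 1]))) (TL.node (TL.node (TL.node (TL.leaf [nat_lit 4100, nat_lit 0, nat_lit 3, nat_lit 1, nat_lit 3, nat_lit 1, nat_lit 3, nat_lit 1, nat_lit 3]) (TL.leaf [nat_lit 8196, nat_lit 1, nat_lit 2, nat_lit 1, nat_lit 3, nat_lit 1, nat_lit 2, nat_lit 1, nat_lit 3, nat_lit 3, nat_lit 0])) (TL.node (TL.leaf [nat_lit 6154, nat_lit 3, nat_lit 1, nat_lit 1, nat_lit 3, nat_lit 0, nat_lit 0, nat_lit 0, nat_lit 2]) (TL.leaf [nat_lit 8200, nat_lit 0, nat_lit 3, nat_lit 1, nat_lit 2, nat_lit 1, nat_lit 3, nat_lit 3, nat_lit 0, nat_lit 0, nat_lit 2]))) (TL.node (TL.node (TL.leaf [nat_lit 1, nat_lit 1, nat_lit 0, nat_lit 0, nat_lit 0, nat_lit 0, nat_lit 0, nat_lit 0]) (TL.leaf [nat_lit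 4099, nat_lit 3, nat_lit 0, nat_lit 2, nat_lit 0, nat_lit 2, nat_lit 0, nat_lit 2, nat_lit 0])) (TL.leaf [nat_lit 4098, nat_lit 2, nat_lit 1, nat_lit 3, nat_lit 1, nat_lit 3, nat_lit 1, nat_lit 3, nat_lit 1])))))
noncomputable def W (i : ℕ) : List ℕ := TL.get W_t i
def WA_t : TL := (TL.leaf [nat_lit 0])
noncomputable def WA (i : ℕ) : List ℕ := TL.get WA_t i
noncomputable def row : ℕ → ℕ := hRow (nat_lit 63) (nat_lit 4) (nat_lit 2) (nat_lit 64) (nat_lit 32) (nat_lit 2048) (nat_lit 1024) (nat_lit 1024) (nat_lit 0) E X Pa inv (wfun (nat_lit 29) W_t)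
noncomputable def aux : ℕ → ℕ := hAux (nat_lit 64) (nat_lit 4) (nat_lit 64) (nat_lit 2048) (nat_lit 1024) (nat_lit 2) (nat_lit 2) (nat_lit 1024) (nat_lit 0) E X J Pa inv WA_t.get
theorem r0 : Nat.beq (rng row (nat_lit 0) (nat_lit 64)) (nat_lit 0) = true := by decide +kernel
theorem rows : ∀ i < 64, row i = 0 := by
  have h := zero_lt_zero row
  have h := zero_lt_add (a := (nat_lit 0)) (n := (nat_lit 64)) (b := (nat_lit 64)) h r0 rfl
  exact h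
theorem auxs : ∀ i < 0, aux i = 0 := by
  have h := zero_lt_zero aux
  exact h
theorem closes.{u} : ClosesT.{u} inv rels 4 2 64 T :=
  hc_closes (N1 := (nat_lit 63)) rfl T_eq (by decide +kernel) rows auxs
theorem T_inv : ∀ c < 64, ∀ j < 4, T j c < 64 ∧ T (inv j) (T j c) = c := 
  hc_inv (inv := inv) (N1 := (nat_lit 63)) rfl T_eq rows
end L2

namespace L3
def t0x : TN := (TN.leaf (nat_lit 0x440360814950702a01eb40284004cc0080204cbc0270812b400c5001484094a00761024e00113402d08122a04c9a85e18c3590273042f883d7980170811b404fd6a150408b18366e6095400c210a10811410224401d1801b41e5d442e20ddba8a1e0810e706c0a65a4802b280183047c204298a1c100581021061470c390100461020c400e8801a1002c2004884078c2080810220018400104080))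
def t1x : TN := (TN.leaf (nat_lit 0x5803ea804d100aa905eb802d9a066102766015d401a8803301b00e0161801520046b00ba6fdb20016280529006d8ad80408f8bc28c0094e69ab16bc72d70740ede0110803f08116f1cc520102cd3a20024b006020449c0102923810220401ca522128e501021c401b88034100641021840179000c2800a40034401390693100482007c400f100041002e1020840088800e1001410204400188000))
def t2x : TN := (TN.leaf (nat_lit 0x38037480521028a201a040a148075146fa6017840976005c6006c204a1c02b52370e0099e00d40db973532b4afcc00ab40247b676102382046880406a52c102318b0e3d1bc4003e200f420451801030023280d9000ead3b20811052eaa0011ad29e41b6a6364880048408610066200c44018357ac1005a4269c4014040831004a20080800284082100302004c20408800f100162001c400204080))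
def t3x : TN := (TN.leaf (nat_lit 0x40a86005d200e820514002480056844ee20182c03368c8130079200bc19bd08126c007020490409191572b2adc2047b801031f6860069055f8408d2801cd18c82045b152c7b932200f8401e0408a39d46c0060e70eb40252916ce18c5e0178408710070e009ca316880350810c70058a54f94b2008108200a8401488026081062008462ca8801b08104200506184840811001820020400288000))
def t4x : TN := (TN.leaf (nat_lit 0x5d93ab007d584fec018440270813b80102a0123002fa8054102524018c9f2598035100a22e1ad573d5a9701023cc0134001f0811d476ddac4dc1d3282978514b6601a504b97343c1022a2ecb293207b258f008c401d840887005327acc2043b17176803120084204308036200184002c8002840841005c200ac20418c513189242008820410801c10032200546208880101001a20024204008001))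
def tt : TN := (TN.node (TN.node (TN.node (TN.node t0x (TN.leaf (nat_lit 0))) (TN.node t4x (TN.leaf (nat_lit 0)))) (TN.node (TN.node t2x (TN.leaf (nat_lit 0))) (TN.node (TN.leaf (nat_lit 0)) (TN.leaf (nat_lit 0))))) (TN.node (TN.node (TN.node t1x (TN.leaf (nat_lit 0))) (TN.node (TN.leaf (nat_lit 0)) (TN.leaf (nat_lit 0)))) (TN.node (TN.node t3x (TN.leaf (nat_lit 0))) (TN.node (TN.leaf (nat_lit 0)) (TN.leaf (nat_lit 0))))))
noncomputable def T (j c : ℕ) : ℕ := getL tt (nat_lit 19) (nat_lit 127) j c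
noncomputable def E (j c : ℕ) : ℕ := getL tt (nat_lit 19) (nat_lit 524287) j c
theorem T_eq (j c : ℕ) : T j c = E j c % 128 :=
  getL_mod (a := 7) (b := 19) _ _ (by norm_num) (by norm_num) (by norm_num) (by norm_num) j c
def rels : List (List ℕ) := [[nat_lit 0, nat_lit 0, nat_lit 0, nat_lit 0, nat_lit 0, nat_lit 0, nat_lit 0], [nat_lit 2, nat_lit 2, nat_lit 2, nat_lit 2, nat_lit 2, nat_lit 2, nat_lit 2], [nat_lit 0, nat_lit 2, nat_lit 0, nat_lit 2, nat_lit 0, nat_lit 2, nat_lit 0, nat_lit 2], [nat_lit 2, nat_lit 0, nat_lit 0, nat_lit 3, nat_lit 3, nat_lit 1, nat_lit 1, nat_lit 1], [nat_lit 2, nat_lit 2, nat_lit 0, nat_lit 3, nat_lit 0, nat_lit 2, nat_lit 0, nat_lit 3, nat_lit 1, nat_lit 1], [nat_lit 4, nat_lit 2, nat_lit 0, nat_lit 2, nat_lit 1, nat_lit 4, nat_lit 2, nat_lit 0, nat_lit 2, nat_lit 1], [nat_lit 4, nat_lit 3, nat_lit 3, nat_lit 4, nat_lit 1, nat_lit 4, nat_lit 1, nat_lit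 3, nat_lit 0, nat_lit 0, nat_lit 2, nat_lit 1], [nat_lit 4, nat_lit 3, nat_lit 4, nat_lit 0, nat_lit 2, nat_lit 4, nat_lit 0, nat_lit 2, nat_lit 1, nat_lit 2, nat_lit 1, nat_lit 3], [nat_lit 4, nat_lit 0, nat_lit 4, nat_lit 3, nat_lit 4, nat_lit 1, nat_lit 1, nat_lit 4, nat_lit 1, nat_lit 3, nat_lit 3, nat_lit 3, nat_lit 0], [nat_lit 4, nat_lit 1, nat_lit 2, nat_lit 4, nat_lit 1, nat_lit 1, nat_lit 1, nat_lit 4, nat_lit 2, nat_lit 0, nat_lit 3, nat_lit 0], [nat_lit 4, nat_lit 1, nat_lit 3, nat_lit 0, nat_lit 4, nat_lit 3, nat_lit 4, nat_lit 3, nat_lit 3, nat_lit 1, nat_lit 3, nat_lit 0], [nat_lit 4, nat_lit 1, nat_lit 3, nat_lit 4, nat_lit 3, nat_lit 1, nat_lit 1, nat_lit 4, nat_lit 2, nat_lit 0, nat_lit 3, nat_lit 1], [nat_lit 4, nat_lit 1, nat_lit 4, nat_lit 0, nat_lit 0, nat_lit 3, nat_lit 4, nat_lit 2, nat_lit 2, nat_lit 1, nat_lit 3]]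
def inv (i : ℕ) : ℕ := Nat.land (Nat.shiftRight (nat_lit 181441) (Nat.mul (nat_lit 3) i)) (nat_lit 7)
def X_t : TN := (TN.leaf (nat_lit 0))
noncomputable def X (i : ℕ) : ℕ := get9 X_t (nat_lit 1) (nat_lit 1) i
def Jp_t : TN := (TN.leaf (nat_lit 0))
noncomputable def Jp (i : ℕ) : ℕ := get9 Jp_t (nat_lit 1) (nat_lit 1) i
def J_t : TN := (TN.leaf (nat_lit 0))
noncomputable def J (k : ℕ) : ℕ := getV J_t Jp k
def Pa_t : TN := (TN.leaf (nat_lit 0x2a83a902a22a88ea12a7529d1a642972a542944a50a940a4ce930a48e11384420f483ce0f183920e2834a0d383420c282ce0b082c60a4828a0a382820908246084820a08181d207381c20718192062818e0616141844610d84060d183260cd8306091822608d821404901340410112010000))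
noncomputable def Pa (i : ℕ) : ℕ := get9 Pa_t (nat_lit 14) (nat_lit 16383) i
def W_t1 : TL := (TL.node (TL.node (TL.node (TL.node (TL.node (TL.node (TL.leaf [nat_lit 2, nat_lit 0, nat_lit 1, nat_lit 1, nat_lit 1, nat_lit 1, nat_lit 1, nat_lit 1]) (TL.leaf [nat_lit 24598, nat_lit 4, nat_lit 2, nat_lit 0, nat_lit 3, nat_lit 3, nat_lit 4, nat_lit 2, nat_lit 1, nat_lit 1, nat_lit 4, nat_lit 0])) (TL.leaf [nat_lit 24588, nat_lit 3, nat_lit 1, nat_lit 1, nat_lit 4, nat_lit 0, nat_lit 4, nat_lit 2, nat_lit 0, nat_lit 3, nat_lit 3, nat_lit 4])) (TL.node (TL.leaf [nat_lit 22530, nat_lit 1, nat_lit 2, nat_lit 1, nat_lit 3, nat_lit 4, nat_lit 0, nat_lit 0, nat_lit 2, nat_lit 4, nat_lit 2, nat_lit 0, nat_lit 4]) (TL.leaf [nat_lit 10250, nat_lit 4, nat_lit 0, nat_lit 3, nat_lit 1, nat_lit 3, nat_lit 4, nat_lit 0, nat_lit 3, nat_lit 1, nat_lit 3]))) (TL.node (TL.node (TL.leaf [nat_lit 22546, nat_lit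 4, nat_lit 2, nat_lit 0, nat_lit 4, nat_lit 0, nat_lit 2, nat_lit 1, nat_lit 3, nat_lit 4, nat_lit 0, nat_lit 0, nat_lit 2]) (TL.leaf [nat_lit 4099, nat_lit 3, nat_lit 0, nat_lit 2, nat_lit 0, nat_lit 2, nat_lit 0, nat_lit 2, nat_lit 0])) (TL.node (TL.leaf [nat_lit 1, nat_lit 1, nat_lit 0, nat_lit 0, nat_lit 0, nat_lit 0, nat_lit 0, nat_lit 0]) (TL.leaf [nat_lit 16389, nat_lit 4, nat_lit 3, nat_lit 4, nat_lit 1, nat_lit 1, nat_lit 4, nat_lit 1, nat_lit 3, nat_lit 3, nat_lit 3, nat_lit 0, nat_lit 4, nat_lit 0])))) (TL.node (TL.node (TL.node (TL.leaf [nat_lit 12308, nat_lit 3, nat_lit 2, nat_lit 4, nat_lit 0, nat_lit 3, nat_lit 1, nat_lit 1, nat_lit 2, nat_lit 0, nat_lit 4, nat_lit 0, nat_lit 4]) (TL.leaf [nat_lit 20493, nat_lit 4, nat_lit 3, nat_lit 3, nat_lit 1, nat_lit 3, nat_lit 0, nat_lit 4, nat_lit 1, nat_lit 3, nat_lit 0, nat_lit 4, nat_lit 3])) (TL.node (TL.leaf [nat_lit 6154,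 nat_lit 3, nat_lit 1, nat_lit 1, nat_lit 3, nat_lit 0, nat_lit 0, nat_lit 0, nat_lit 2]) (TL.leaf [nat_lit 14339, nat_lit 2, nat_lit 4, nat_lit 0, nat_lit 2, nat_lit 4, nat_lit 0, nat_lit 2, nat_lit 1, nat_lit 2, nat_lit 1, nat_lit 3, nat_lit 4]))) (TL.node (TL.node (TL.leaf [nat_lit 6147, nat_lit 1, nat_lit 0, nat_lit 3, nat_lit 3, nat_lit 1, nat_lit 1, nat_lit 1, nat_lit 2]) (TL.leaf [nat_lit 10241, nat_lit 4, nat_lit 2, nat_lit 0, nat_lit 2, nat_lit 1, nat_lit 4, nat_lit 2, nat_lit 0, nat_lit 2, nat_lit 1])) (TL.node (TL.leaf [nat_lit 18435, nat_lit 0, nat_lit 2, nat_lit 4, nat_lit 1, nat_lit 1, nat_lit 1, nat_lit 4, nat_lit 2, nat_lit 0, nat_lit 3, nat_lit 0, nat_lit 4]) (TL.leaf [nat_lit 14341, nat_lit 4, nat_lit 0, nat_lit 2, nat_lit 4, nat_lit 0, nat_lit 2, nat_lit 1, nat_lit 2, nat_lit 1, nat_lit 3, nat_lit 4, nat_lit 3]))))) (TL.node (TL.node (TL.node (TL.node (TL.leaf [nat_lit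 10246, nat_lit 0, nat_lit 3, nat_lit 4, nat_lit 0, nat_lit 3, nat_lit 1, nat_lit 3, nat_lit 4, nat_lit 0, nat_lit 3]) (TL.leaf [nat_lit 6149, nat_lit 1, nat_lit 3, nat_lit 3, nat_lit 1, nat_lit 1, nat_lit 1, nat_lit 2, nat_lit 0])) (TL.node (TL.leaf [nat_lit 6157, nat_lit 0, nat_lit 1, nat_lit 2, nat_lit 0, nat_lit 0, nat_lit 3, nat_lit 3, nat_lit 1]) (TL.leaf [nat_lit 14360, nat_lit 4, nat_lit 2, nat_lit 0, nat_lit 3, nat_lit 0, nat_lit 3, nat_lit 1, nat_lit 4, nat_lit 3, nat_lit 1, nat_lit 4, nat_lit 2]))) (TL.node (TL.node (TL.leaf [nat_lit 2049, nat_lit 3, nat_lit 2, nat_lit 2, nat_lit 2, nat_lit 2, nat_lit 2, nat_lit 2]) (TL.leaf [nat_lit 8199, nat_lit 2, nat_lit 0, nat_lit 2, nat_lit 0, nat_lit 3, nat_lit 1, nat_lit 1, nat_lit 2, nat_lit 2, nat_lit 0])) (TL.node (TL.leaf [nat_lit 22532, nat_lit 3, nat_lit 1, nat_lit 3, nat_lit 4, nat_lit 0, nat_lit 0, nat_lit 2, nat_lit 4, nat_lit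 2, nat_lit 0, nat_lit 4, nat_lit 0]) (TL.leaf [nat_lit 18455, nat_lit 1, nat_lit 4, nat_lit 1, nat_lit 2, nat_lit 4, nat_lit 1, nat_lit 1, nat_lit 1, nat_lit 4, nat_lit 2, nat_lit 0, nat_lit 3])))) (TL.node (TL.node (TL.node (TL.leaf [nat_lit 14356, nat_lit 4, nat_lit 2, nat_lit 4, nat_lit 2, nat_lit 0, nat_lit 3, nat_lit 0, nat_lit 3, nat_lit 1, nat_lit 4, nat_lit 3, nat_lit 1]) (TL.leaf [nat_lit 22534, nat_lit 0, nat_lit 3, nat_lit 4, nat_lit 0, nat_lit 0, nat_lit 2, nat_lit 4, nat_lit 2, nat_lit 0, nat_lit 4, nat_lit 0, nat_lit 2])) (TL.node (TL.leaf [nat_lit 6155, nat_lit 0, nat_lit 1, nat_lit 1, nat_lit 2, nat_lit 0, nat_lit 0, nat_lit 3, nat_lit 3]) (TL.leaf [nat_lit 24581, nat_lit 4, nat_lit 0, nat_lit 0, nat_lit 3, nat_lit 4, nat_lit 2, nat_lit 2, nat_lit 1, nat_lit 3, nat_lit 4, nat_lit 1]))) (TL.node (TL.node (TL.leaf [nat_lit 24595, nat_lit 0, nat_lit 3, nat_lit 4, nat_lit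 1, nat_lit 4, nat_lit 0, nat_lit 0, nat_lit 3, nat_lit 4, nat_lit 2, nat_lit 2]) (TL.leaf [nat_lit 14354, nat_lit 0, nat_lit 4, nat_lit 2, nat_lit 4, nat_lit 2, nat_lit 0, nat_lit 3, nat_lit 0, nat_lit 3, nat_lit 1, nat_lit 4, nat_lit 3])) (TL.node (TL.leaf [nat_lit 12304, nat_lit 1, nat_lit 4, nat_lit 2, nat_lit 2, nat_lit 4, nat_lit 0, nat_lit 3, nat_lit 1, nat_lit 1, nat_lit 2, nat_lit 0, nat_lit 4]) (TL.leaf [nat_lit 22537, nat_lit 2, nat_lit 1, nat_lit 1, nat_lit 4, nat_lit 2, nat_lit 0, nat_lit 3, nat_lit 1, nat_lit 4, nat_lit 1, nat_lit 3, nat_lit 4]))))))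
def W_t2 : TL := (TL.node (TL.node (TL.node (TL.node (TL.node (TL.leaf [nat_lit 6156, nat_lit 0, nat_lit 1, nat_lit 3, nat_lit 0, nat_lit 0, nat_lit 0, nat_lit 2, nat_lit 2]) (TL.leaf [nat_lit 2050, nat_lit 2, nat_lit 3, nat_lit 3, nat_lit 3, nat_lit 3, nat_lit 3, nat_lit 3])) (TL.node (TL.leaf [nat_lit 12303, nat_lit 2, nat_lit 0, nat_lit 0, nat_lit 2, nat_lit 1, nat_lit 4, nat_lit 3, nat_lit 3, nat_lit 4, nat_lit 1, nat_lit 4, nat_lit 1]) (TL.leaf [nat_lit 8195, nat_lit 3, nat_lit 0, nat_lit 3, nat_lit 0, nat_lit 2, nat_lit 0, nat_lit 3, nat_lit 1, nat_lit 1, nat_lit 2]))) (TL.node (TL.node (TL.leaf [nat_lit 16404, nat_lit 3, nat_lit 4, nat_lit 1, nat_lit 4, nat_lit 1, nat_lit 2, nat_lit 2, nat_lit 2, nat_lit 0, nat_lit 4, nat_lit 0, nat_lit 0, nat_lit 4]) (TL.leaf [nat_lit 6150, nat_lit 1, nat_lit 2, nat_lit 2, nat_lit 1, nat_lit 1, nat_lit 3, nat_lit 0, nat_lit 0])) (TL.node (TL.leaf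 [nat_lit 4098, nat_lit 2, nat_lit 1, nat_lit 3, nat_lit 1, nat_lit 3, nat_lit 1, nat_lit 3, nat_lit 1]) (TL.leaf [nat_lit 24577, nat_lit 4, nat_lit 1, nat_lit 4, nat_lit 0, nat_lit 0, nat_lit 3, nat_lit 4, nat_lit 2, nat_lit 2, nat_lit 1, nat_lit 3])))) (TL.node (TL.node (TL.node (TL.leaf [nat_lit 20498, nat_lit 0, nat_lit 2, nat_lit 0, nat_lit 4, nat_lit 1, nat_lit 2, nat_lit 0, nat_lit 2, nat_lit 2, nat_lit 4, nat_lit 2, nat_lit 4]) (TL.leaf [nat_lit 12292, nat_lit 2, nat_lit 1, nat_lit 1, nat_lit 2, nat_lit 0, nat_lit 4, nat_lit 0, nat_lit 4, nat_lit 2, nat_lit 2, nat_lit 4, nat_lit 0])) (TL.node (TL.leaf [nat_lit 6153, nat_lit 2, nat_lit 1, nat_lit 1, nat_lit 1, nat_lit 2, nat_lit 0, nat_lit 0, nat_lit 3]) (TL.leaf [nat_lit 6158, nat_lit 0, nat_lit 3, nat_lit 0, nat_lit 0, nat_lit 0, nat_lit 2, nat_lit 2, nat_lit 1]))) (TL.node (TL.node (TL.leaf [nat_lit 6159, nat_lit 0, nat_lit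 2, nat_lit 0, nat_lit 0, nat_lit 3, nat_lit 3, nat_lit 1, nat_lit 1]) (TL.leaf [nat_lit 8212, nat_lit 2, nat_lit 0, nat_lit 0, nat_lit 2, nat_lit 1, nat_lit 3, nat_lit 1, nat_lit 2, nat_lit 1, nat_lit 3])) (TL.node (TL.leaf [nat_lit 14345, nat_lit 3, nat_lit 4, nat_lit 0, nat_lit 2, nat_lit 1, nat_lit 2, nat_lit 1, nat_lit 3, nat_lit 4, nat_lit 3, nat_lit 4, nat_lit 0]) (TL.leaf [nat_lit 12290, nat_lit 1, nat_lit 3, nat_lit 1, nat_lit 1, nat_lit 2, nat_lit 0, nat_lit 4, nat_lit 0, nat_lit 4, nat_lit 2, nat_lit 2, nat_lit 4]))))) (TL.node (TL.node (TL.node (TL.node (TL.leaf [nat_lit 24592, nat_lit 0, nat_lit 4, nat_lit 0, nat_lit 4, nat_lit 2, nat_lit 0, nat_lit 3, nat_lit 3, nat_lit 4, nat_lit 2, nat_lit 1]) (TL.leaf [nat_lit 6160, nat_lit 2, nat_lit 0, nat_lit 0, nat_lit 0, nat_lit 2, nat_lit 2, nat_lit 1, nat_lit 1])) (TL.node (TL.leaf [nat_lit 6145, nat_lit 3, nat_lit 0, nat_lit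 0, nat_lit 3, nat_lit 3, nat_lit 1, nat_lit 1, nat_lit 1]) (TL.leaf [nat_lit 14352, nat_lit 2, nat_lit 1, nat_lit 4, nat_lit 2, nat_lit 4, nat_lit 2, nat_lit 0, nat_lit 3, nat_lit 0, nat_lit 3, nat_lit 1, nat_lit 4]))) (TL.node (TL.node (TL.leaf [nat_lit 4097, nat_lit 1, nat_lit 2, nat_lit 0, nat_lit 2, nat_lit 0, nat_lit 2, nat_lit 0, nat_lit 2]) (TL.leaf [nat_lit 6146, nat_lit 1, nat_lit 0, nat_lit 0, nat_lit 2, nat_lit 2, nat_lit 1, nat_lit 1, nat_lit 3])) (TL.node (TL.leaf [nat_lit 20488, nat_lit 3, nat_lit 2, nat_lit 4, nat_lit 2, nat_lit 4, nat_lit 1, nat_lit 2, nat_lit 0, nat_lit 4, nat_lit 1, nat_lit 2, nat_lit 0]) (TL.leaf [nat_lit 18433, nat_lit 4, nat_lit 1, nat_lit 2, nat_lit 4, nat_lit 1, nat_lit 1, nat_lit 1, nat_lit 4, nat_lit 2, nat_lit 0, nat_lit 3, nat_lit 0])))) (TL.node (TL.node (TL.node (TL.leaf [nat_lit 18450, nat_lit 4, nat_lit 3, nat_lit 0, nat_lit 4, nat_lit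 1, nat_lit 2, nat_lit 1, nat_lit 3, nat_lit 4, nat_lit 0, nat_lit 0, nat_lit 0]) (TL.leaf [nat_lit 12312, nat_lit 4, nat_lit 0, nat_lit 3, nat_lit 1, nat_lit 1, nat_lit 2, nat_lit 0, nat_lit 4, nat_lit 0, nat_lit 4, nat_lit 2, nat_lit 2])) (TL.node (TL.leaf [nat_lit 8211, nat_lit 0, nat_lit 2, nat_lit 2, nat_lit 0, nat_lit 3, nat_lit 0, nat_lit 2, nat_lit 0, nat_lit 3, nat_lit 1]) (TL.leaf [nat_lit 20494, nat_lit 3, nat_lit 4, nat_lit 1, nat_lit 2, nat_lit 0, nat_lit 4, nat_lit 1, nat_lit 2, nat_lit 0, nat_lit 2, nat_lit 2, nat_lit 4]))) (TL.node (TL.node (TL.leaf [nat_lit 24591, nat_lit 3, nat_lit 2, nat_lit 1, nat_lit 3, nat_lit 4, nat_lit 1, nat_lit 4, nat_lit 0, nat_lit 0, nat_lit 3, nat_lit 4]) (TL.leaf [nat_lit 16396, nat_lit 4, nat_lit 0, nat_lit 0, nat_lit 4, nat_lit 2, nat_lit 4, nat_lit 1, nat_lit 4, nat_lit 1, nat_lit 2, nat_lit 2, nat_lit 2, nat_lit 0])) (TL.node (TL.leaf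 [nat_lit 4100, nat_lit 0, nat_lit 3, nat_lit 1, nat_lit 3, nat_lit 1, nat_lit 3, nat_lit 1, nat_lit 3]) (TL.leaf [nat_lit 8205, nat_lit 1, nat_lit 3, nat_lit 1, nat_lit 1, nat_lit 2, nat_lit 2, nat_lit 0, nat_lit 3, nat_lit 0, nat_lit 2]))))))
def W_t : TL := (TL.node W_t1 W_t2)
noncomputable def W (i : ℕ) : List ℕ := TL.get W_t i
def WA_t : TL := (TL.leaf [nat_lit 0])
noncomputable def WA (i : ℕ) : List ℕ := TL.get WA_t i
noncomputable def row : ℕ → ℕ := hRow (nat_lit 64) (nat_lit 5) (nat_lit 4) (nat_lit 128) (nat_lit 128) (nat_lit 16384) (nat_lit 2048) (nat_lit 2048) (nat_lit 0) E X Pa inv (wfun (nat_lit 65) W_t)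
noncomputable def aux : ℕ → ℕ := hAux (nat_lit 65) (nat_lit 5) (nat_lit 128) (nat_lit 16384) (nat_lit 2048) (nat_lit 2) (nat_lit 2) (nat_lit 2048) (nat_lit 0) E X J Pa inv WA_t.get
theorem r0 : Nat.beq (rng row (nat_lit 0) (nat_lit 65)) (nat_lit 0) = true := by decide +kernel
theorem rows : ∀ i < 65, row i = 0 := by
  have h := zero_lt_zero row
  have h := zero_lt_add (a := (nat_lit 0)) (n := (nat_lit 65)) (b := (nat_lit 65)) h r0 rfl
  exact h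
theorem auxs : ∀ i < 0, aux i = 0 := by
  have h := zero_lt_zero aux
  exact h
theorem closes.{u} : ClosesT.{u} inv rels 5 4 65 T :=
  hc_closes (N1 := (nat_lit 64)) rfl T_eq (by decide +kernel) rows auxs
theorem T_inv : ∀ c < 65, ∀ j < 5, T j c < 65 ∧ T (inv j) (T j c) = c := 
  hc_inv (inv := inv) (N1 := (nat_lit 64)) rfl T_eq rows
end L3

def rels : List (List ℕ) := [[nat_lit 0, nat_lit 0, nat_lit 0, nat_lit 0, nat_lit 0, nat_lit 0, nat_lit 0], [nat_lit 2, nat_lit 2, nat_lit 2, nat_lit 2, nat_lit 2, nat_lit 2, nat_lit 2], [nat_lit 0, nat_lit 2, nat_lit 0, nat_lit 2, nat_lit 0, nat_lit 2, nat_lit 0, nat_lit 2], [nat_lit 2, nat_lit 0, nat_lit 0, nat_lit 3, nat_lit 3, nat_lit 1, nat_lit 1, nat_lit 1], [nat_lit 2, nat_lit 2, nat_lit 0, nat_lit 3, nat_lit 0, nat_lit 2, nat_lit 0, nat_lit 3, nat_lit 1, nat_lit 1], [nat_lit 4, nat_lit 2, nat_lit 0, nat_lit 2, nat_lit 1, nat_lit 4, nat_lit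 2, nat_lit 0, nat_lit 2, nat_lit 1], [nat_lit 4, nat_lit 3, nat_lit 3, nat_lit 4, nat_lit 1, nat_lit 4, nat_lit 1, nat_lit 3, nat_lit 0, nat_lit 0, nat_lit 2, nat_lit 1], [nat_lit 4, nat_lit 3, nat_lit 4, nat_lit 0, nat_lit 2, nat_lit 4, nat_lit 0, nat_lit 2, nat_lit 1, nat_lit 2, nat_lit 1, nat_lit 3], [nat_lit 4, nat_lit 0, nat_lit 4, nat_lit 3, nat_lit 4, nat_lit 1, nat_lit 1, nat_lit 4, nat_lit 1, nat_lit 3, nat_lit 3, nat_lit 3, nat_lit 0], [nat_lit 4, nat_lit 1, nat_lit 2, nat_lit 4, nat_lit 1, nat_lit 1, nat_lit 1, nat_lit 4, nat_lit 2, nat_lit 0, nat_lit 3, nat_lit 0], [nat_lit 4, nat_lit 1, nat_lit 3, nat_lit 0, nat_lit 4, nat_lit 3, nat_lit 4, nat_lit 3, nat_lit 3, nat_lit 1, nat_lit 3, nat_lit 0], [nat_lit 4, nat_lit 1, nat_lit 3, nat_lit 4, nat_lit 3, nat_lit 1, nat_lit 1, nat_lit 4, nat_lit 2, nat_lit 0, nat_lit 3, nat_lit 1], [nat_lit 4, nat_lit 1, nat_lit 4, nat_lit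 0, nat_lit 0, nat_lit 3, nat_lit 4, nat_lit 2, nat_lit 2, nat_lit 1, nat_lit 3]]
def inv (i : ℕ) : ℕ := Nat.land (Nat.shiftRight (nat_lit 17601) (Nat.mul (nat_lit 3) i)) (nat_lit 7)
theorem ub2 {Γ : Type} [Group Γ] {g : ℕ → Γ} (h1 : InvOK g inv 5) (h2 : ∀ w ∈ rels, ev g w = 1) : CardLE (gen g 2) 7 :=
  tw h1 h2 L1.closes (by decide +kernel) (cardLE_gen_zero g)
theorem ub4 {Γ : Type} [Group Γ] {g : ℕ → Γ} (h1 : InvOK g inv 5) (h2 : ∀ w ∈ rels, ev g w = 1) : CardLE (gen g 4) 448 :=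
  tw h1 h2 L2.closes (by decide +kernel) (ub2 h1 h2)
theorem ub5 {Γ : Type} [Group Γ] {g : ℕ → Γ} (h1 : InvOK g inv 5) (h2 : ∀ w ∈ rels, ev g w = 1) : CardLE (gen g 5) 29120 :=
  tw h1 h2 L3.closes (by decide +kernel) (ub4 h1 h2)

end Cfsg.Agent.Ct.Sz8
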